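import Cfsg.Agent.B85I.A
import Cfsg.Agent.Cl.UStd
import Cfsg.Agent.Cl.Congr

/-! # A simple group with unitary coordinates is the unitary group -/

set_option autoImplicit false

namespace Cfsg.Agent.B85

open Cfsg.Agent.Cl Cfsg.Agent.Cl.Uni Cfsg.Agent.B85I Subgroup

variable {F V G Ω : Type*} [Field F] [StarRing F] [AddCommGroup V] [Module F V] [Group G] [MulAction G Ω]

/-- a frame of a three-dimensional unitary space -/
structure Fr (h : HForm F V) (e f v : V) : Prop where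
  hyp : Hyp h e f
  ev : h e v = 0
  fv : h f v = 0
  vv : h v v = 1
  span : ∀ w, h e w = 0 → h f w = 0 → ∃ s : F, w = s • v

/-- a point and a vector representing it -/
def Rp (e f v : V) (inf : Ω) (pt : F → F → Ω) (ω : Ω) (x : V) : Prop :=
  ∃ c : F, c ≠ 0 ∧ ((ω = inf ∧ x = c • e) ∨ ∃ y s, Vd y s ∧ ω = pt y s ∧ x = c • (y • e + s • v + f))

variable {h : HForm F V} {e f v x x' : V} {inf ω ω' : Ω} {pt : F → F → Ω} {Q : Subgroup G} {w : G}

theorem Rp.smul (r : Rp e f v inf pt ω x) {c : F} (hc : c ≠ 0) : Rp e f v inf pt ω (c • x) := by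
  obtain ⟨d, hd, r⟩ := r
  exact ⟨c * d, mul_ne_zero hc hd, r.imp (fun r => ⟨r.1, by rw [r.2, mul_smul]⟩)
    fun ⟨y, s, a, b, r⟩ => ⟨y, s, a, b, by rw [r, mul_smul]⟩⟩

theorem rp_inf : Rp e f v inf pt inf e := ⟨1, one_ne_zero, Or.inl ⟨rfl, (one_smul _ _).symm⟩⟩
theorem rp_pt {y s : F} (a : Vd y s) : Rp e f v inf pt (pt y s) (y • e + s • v + f) :=
  ⟨1, one_ne_zero, Or.inr ⟨y, s, a, rfl, (one_smul _ _).symm⟩⟩

theorem Fr.ve (K : Fr h e f v) : h v e = 0 := h.eq_zero_symm K.ev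
theorem Fr.vf (K : Fr h e f v) : h v f = 0 := h.eq_zero_symm K.fv

theorem Fr.iso (K : Fr h e f v) (r : Rp e f v inf pt ω x) : h x x = 0 := by
  obtain ⟨c, -, ⟨-, rfl⟩ | ⟨y, s, a, -, rfl⟩⟩ := r
  · simp [K.hyp.hee]
  · simp [K.hyp.hee, K.hyp.hff, K.hyp.hef, K.hyp.hfe, K.ev, K.fv, K.ve, K.vf, K.vv]
    unfold Vd at a
    linear_combination c * star c * a

theorem Fr.exists_rp (K : Fr h e f v) (h0 : x ≠ 0) (hx : h x x = 0) : ∃ ω, Rp e f v inf pt ω x := by
  obtain ⟨a, b, w, h1, h2, rfl⟩ := K.hyp.decomp x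
  obtain ⟨s, rfl⟩ := K.span w h1 h2
  simp [K.hyp.hee, K.hyp.hff, K.hyp.hef, K.hyp.hfe, K.ev, K.fv, K.ve, K.vf, K.vv] at hx
  by_cases b0 : b = 0
  · obtain rfl : s = 0 := by simpa [b0] using hx
    exact ⟨inf, a, fun z => h0 (by simp [z, b0]), Or.inl ⟨rfl, by simp [b0]⟩⟩
  · have := star_ne_zero.2 b0
    refine ⟨pt (a / b) (s / b), b, b0, Or.inr ⟨_, _, ?_, rfl, ?_⟩⟩
    · simp only [Vd, star_div₀]; field_simp; linear_combination hx
    · simp only [smul_add, smul_smul, mul_div_cancel₀ _ b0]; abel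

theorem Fr.rp_inj (K : Fr h e f v) (r : Rp e f v inf pt ω x) (r' : Rp e f v inf pt ω' x) : ω = ω' := by
  obtain ⟨c, hc, ⟨rfl, rfl⟩ | ⟨y, s, -, rfl, rfl⟩⟩ := r <;>
    obtain ⟨c', hc', ⟨r', r⟩ | ⟨y', s', -, rfl, r⟩⟩ := r'
  · exact r'.symm
  · exact (hc' (by simpa [K.hyp.hee, K.hyp.hfe, K.ve] using (congrArg (h · e) r).symm)).elim
  · exact (hc (by simpa [K.hyp.hee, K.hyp.hfe, K.ve] using congrArg (h · e) r)).elim
  · obtain rfl : c = c' := by simpa [K.hyp.hee, K.hyp.hfe, K.ve] using congrArg (h · e) r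
    obtain rfl : y = y' := by simpa [K.hyp.hff, K.hyp.hef, K.vf, hc] using congrArg (h · f) r
    obtain rfl : s = s' := by simpa [K.ev, K.fv, K.vv, hc] using congrArg (h · v) r
    rfl

variable (C : Co inf pt Q w)
include C

theorem co_rp (ω : Ω) : ∃ x, Rp e f v inf pt ω x := by
  by_cases n : ω = inf
  · exact ⟨e, by rw [n]; exact rp_inf⟩
  · obtain ⟨y, s, a, rfl⟩ := C.surj ω n
    exact ⟨_, rp_pt a⟩

theorem co_uniq (r : Rp e f v inf pt ω x) (r' : Rp e f v inf pt ω x') : ∃ c : F, c ≠ 0 ∧ x' = c • x := by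
  obtain ⟨c, hc, ⟨rfl, rfl⟩ | ⟨y, s, a, rfl, rfl⟩⟩ := r <;>
    obtain ⟨c', hc', ⟨r, rfl⟩ | ⟨y', s', a', r, rfl⟩⟩ := r'
  · exact ⟨c' / c, div_ne_zero hc' hc, by rw [smul_smul, div_mul_cancel₀ _ hc]⟩
  · exact (C.ne a' r.symm).elim
  · exact (C.ne a r).elim
  · obtain ⟨rfl, rfl⟩ := C.inj a a' r
    exact ⟨c' / c, div_ne_zero hc' hc, by rw [smul_smul, div_mul_cancel₀ _ hc]⟩

/-- the graph -/
def Gr (h : HForm F V) (e f v : V) : Subgroup (UG h × G) where
  carrier := {p | ∀ ω x, Rp e f v inf pt ω x → Rp e f v inf pt (p.2 • ω) (p.1.1 x)}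
  one_mem' ω x r := by simpa using r
  mul_mem' {p p'} a b ω x r := by simpa [mul_smul] using a _ _ (b ω x r)
  inv_mem' {p} a ω x r := by
    obtain ⟨x', r'⟩ := co_rp (e := e) (f := f) (v := v) C (p.2⁻¹ • ω)
    have := a _ _ r'
    rw [smul_inv_smul] at this
    obtain ⟨c, hc, rfl⟩ := co_uniq C this r
    simpa using r'.smul hc

theorem mem_Gr {A : UG h} {g : G} (h1 : Rp e f v inf pt (g • inf) (A.1 e))
    (h2 : ∀ y s, Vd y s → Rp e f v inf pt (g • pt y s) (A.1 (y • e + s • v + f))) : (A, g) ∈ Gr C h e f v := by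
  rintro _ _ ⟨c, hc, ⟨rfl, rfl⟩ | ⟨y, s, a, rfl, rfl⟩⟩
  · exact map_smul A.1 c _ ▸ h1.smul hc
  · exact map_smul A.1 c _ ▸ (h2 y s a).smul hc

theorem gr_eich [Finite F] (K : Fr h e f v) {u : G} {y s : F} (hu : u ∈ Q) (a : Vd y s) (r : u • pt 0 0 = pt y s)
    (E : EC h e (-s • v) (-y)) : (eich h e _ _ E, u) ∈ Gr C h e f v := by
  refine mem_Gr C (by rw [C.Qinf u hu, eich_self]; exact rp_inf) fun y' s' a' => ?_
  rw [C.std hu a a' r, eich_apply]
  convert rp_pt (a.mul a') using 1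
  simp [K.hyp.hee, K.hyp.hfe, K.ev, K.fv, K.ve, K.vv]
  module

theorem gr_all [Finite F] (K : Fr h e f v) (g : G) : ∃ A, (A, g) ∈ Gr C h e f v := by
  have hQ : ∀ u ∈ Q, ∃ A, (A, u) ∈ Gr C h e f v := fun u hu => by
    obtain ⟨y, s, a, r⟩ := C.val hu Vd.zero
    exact ⟨_, gr_eich C K hu a r ⟨K.hyp.hee, by simp [K.ev], by
      unfold Vd at a; simp [K.vv]; linear_combination -a⟩⟩
  have hB : ∀ g : G, g • inf = inf → ∃ A, (A, g) ∈ Gr C h e f v := fun g r => by
    obtain ⟨y, s, a, r'⟩ := C.surj (g • pt 0 0) fun n => C.ne Vd.zero (by rw [← smul_left_cancel_iff g, n, r])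
    obtain ⟨u, hu, r''⟩ := C.Qtr a
    obtain ⟨-, m, m0, k⟩ := C.K (u⁻¹ * g) (by rw [mul_smul, r, C.Qinf _ (inv_mem hu)])
      (by rw [mul_smul, r', ← r'', inv_smul_smul])
    obtain ⟨A, hA⟩ := hQ u hu
    have := mem_Gr C (A := K.hyp.hd (.mk0 _ (star_ne_zero.2 m0))) (g := u⁻¹ * g) (v := v) (e := e) (f := f) (by
      rw [mul_smul, r, C.Qinf _ (inv_mem hu), K.hyp.hd_e]; exact rp_inf.smul (Units.ne_zero _)) fun y s a => by
      rw [k a]
      convert (rp_pt (a.smul m)).smul (inv_ne_zero m0) using 1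
      simp only [map_add, map_smul, K.hyp.hd_e, K.hyp.hd_f, K.hyp.hd_w _ K.ev K.fv, Units.val_mk0, star_star]
      match_scalars <;> field_simp
    exact ⟨_, by simpa using mul_mem hA this⟩
  by_cases n : g • inf = inf
  · exact hB g n
  obtain ⟨y, s, a, r⟩ := C.surj _ n
  obtain ⟨u, hu, r'⟩ := C.Qtr a
  obtain ⟨A, hA⟩ := hQ u hu
  obtain ⟨B, hB⟩ := hB ((u * w)⁻¹ * g) (by rw [mul_smul, r, ← r', ← C.w1, ← mul_smul u, inv_smul_smul])
  have := mem_Gr C (A := sig h (e - f) (-1) (by simp [K.hyp.hee, K.hyp.hff, K.hyp.hef, K.hyp.hfe]; norm_num))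
    (g := w) (v := v) (e := e) (f := f) (by
      rw [C.w1]
      convert rp_pt Vd.zero using 1
      simp [sig_apply, K.hyp.hee, K.hyp.hef]) fun y s a => by
      have : (sig h (e - f) (-1) (by simp [K.hyp.hee, K.hyp.hff, K.hyp.hef, K.hyp.hfe]; norm_num)).1
          (y • e + s • v + f) = e + s • v + y • f := by
        simp [sig_apply, K.hyp.hee, K.hyp.hff, K.hyp.hef, K.hyp.hfe, K.ve, K.vf]
        module
      rw [this]
      by_cases y0 : y = 0
      · obtain rfl : s = 0 := by_contra fun n => a.ne n y0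
        simpa [y0, C.w2] using rp_inf
      · rw [C.w3 a y0]
        convert (rp_pt (a.inv y0)).smul y0 using 1
        match_scalars <;> field_simp
  exact ⟨_, by simpa [mul_assoc] using mul_mem (mul_mem hA this) hB⟩

theorem co_equiv [Finite F] [IsSimpleGroup G] (nd : Nondeg h) (K : Fr h e f v) :
    Nonempty (G ≃* EG h ⧸ center (EG h)) := by
  have fa : ∀ g : G, (∀ ω : Ω, g • ω = ω) → g = 1 := fun g r =>
    ((MulAction.toPermHom G Ω).normal_ker.eq_bot_or_eq_top.resolve_right fun n => C.ne Vd.zero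
      (C.w1.symm.trans (Equiv.congr_fun (n.ge (mem_top w)) inf))).le (Equiv.ext r)
  obtain ⟨π, hπ⟩ := exists_hom_of_graph ((Gr C h e f v).comap ((EG h).subtype.prodMap (MonoidHom.id G))) (by
    suffices EG h ≤ (Gr C h e f v).map (MonoidHom.fst _ _) from eq_top_iff.2 fun A _ =>
      (this A.2).elim fun p r => ⟨(A, p.2), by
        have := r.1
        rwa [show p = (A.1, p.2) from Prod.ext r.2 rfl] at this, rfl⟩
    rw [EG, closure_le]
    rintro _ ⟨u, z, β, E, rfl⟩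
    by_cases u0 : u = 0
    · rw [show eich h u z β E = 1 from UG.ext' fun x => by simp [eich_apply, u0]]
      exact one_mem _
    obtain ⟨ω, r⟩ := K.exists_rp (inf := inf) (pt := pt) u0 E.hu
    obtain ⟨g, rfl⟩ : ∃ g : G, g • inf = ω := by
      by_cases n : ω = inf
      · exact ⟨1, by rw [n, one_smul]⟩
      · obtain ⟨y, s, a, rfl⟩ := C.surj ω n
        obtain ⟨u, -, r⟩ := C.Qtr a
        exact ⟨u * w, by rw [mul_smul, C.w1, r]⟩
    obtain ⟨A, hA⟩ := gr_all C K g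
    obtain ⟨c, -, rfl⟩ := co_uniq C (hA _ _ rp_inf) r
    have E' : EC h (c • e) ((A⁻¹).1 z) β := by simpa using E.map A⁻¹
    have := K.hyp.eich_mem_of (K := (Gr C h e f v).map (MonoidHom.fst _ _)) (fun z β E n => by
      obtain ⟨s, rfl⟩ := K.span z E.hv n
      have a : Vd (-β) (-s) := by
        have := E.hb
        simp [K.vv] at this
        simp only [Vd, star_neg]
        linear_combination -this
      obtain ⟨u, hu, r⟩ := C.Qtr a
      have E2 : EC h e (- -s • v) (- -β) := by simpa using E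
      exact ⟨_, gr_eich C K hu a r E2, eich_congr E2 E rfl (by simp) (by simp)⟩) c _ β E'
    have m : A ∈ (Gr C h e f v).map (MonoidHom.fst _ _) := ⟨_, hA, rfl⟩
    have := mul_mem (mul_mem m this) (inv_mem m)
    rwa [conj_eich, eich_congr _ E (by simp) (by simp) rfl] at this) fun g r => fa g fun ω =>
      (co_rp C ω).elim fun x a => K.rp_inj (by simpa using r ω x a) a
  have un : ∀ (A : EG h) g, (A.1, g) ∈ Gr C h e f v → π A = g := fun A g r => mul_inv_eq_one.1 (fa _ fun ω =>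
    (co_rp C ω).elim fun x a => K.rp_inj (by simpa using mul_mem (hπ A) (show (A, g)⁻¹ ∈ _ from inv_mem r) ω x a) a)
  have nr : π.range.Normal := ⟨by
    rintro _ ⟨A, rfl⟩ g
    obtain ⟨B, hB⟩ := gr_all C K g
    exact ⟨⟨_, (inferInstance : (EG h).Normal).conj_mem _ A.2 B⟩, un _ _ (mul_mem (mul_mem hB (hπ A)) (inv_mem hB))⟩⟩
  have sj : π.range = ⊤ := nr.eq_bot_or_eq_top.resolve_left fun n => by
    obtain ⟨u, hu, r⟩ := C.Qtr (Vd.half C.two 1)
    have E : EC h e (-(1 : F) • v) (-(-(1 * star 1) / 2)) := ⟨K.hyp.hee, by simp [K.ev], by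
      have := C.two
      simp [K.vv]; field_simp; norm_num⟩
    rw [n.le ⟨_, un ⟨_, eich_mem_EG E⟩ _ (gr_eich C K hu (Vd.half C.two 1) r E)⟩, one_smul] at r
    exact zero_ne_one (C.inj Vd.zero (Vd.half C.two 1) r).2
  have kr : π.ker = center _ := Subgroup.ext fun A => by
    rw [K.hyp.mem_center_iff C.nt nd]
    refine ⟨fun r => (K.hyp.scalar_of_fix C.nt A.1 fun u hu => ?_).imp fun c r => r.2, fun ⟨c, r⟩ => un _ _
      fun ω x a => ?_⟩
    · by_cases u0 : u = 0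
      · exact ⟨0, by simp [u0]⟩
      obtain ⟨ω, a⟩ := K.exists_rp (inf := inf) (pt := pt) u0 hu
      have := hπ A ω u a
      simp only [MonoidHom.coe_prodMap, Prod.map_snd, MonoidHom.id_apply, show π A = 1 from r, one_smul] at this
      exact (co_uniq C a this).imp fun c r => r.2
    · rw [one_smul, r]
      exact a.smul fun z => UG.apply_ne_zero A.1 K.hyp.e_ne (by rw [r, z, zero_smul])
  exact ⟨(QuotientGroup.quotientKerEquivOfSurjective π (MonoidHom.range_eq_top.1 sj)).symm.trans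
    (QuotientGroup.quotientMulEquivOfEq kr)⟩

/-- the identification -/
theorem co_psu {q : ℕ} [IsSimpleGroup G] (H : IsFrob F q) : Nonempty (G ≃* Cfsg.PSU 3 F q) := by
  haveI := H.fin
  obtain ⟨i, hi⟩ := H.exists_norm (c := -1) (by simp)
  have := C.two
  have K : Fr (stdH F 3) ![1, i, 0] ![1 / 2, -i / 2, 0] ![0, 0, 1] := by
    refine ⟨⟨?_, ?_, ?_⟩, ?_, ?_, ?_, fun w h1 h2 => ⟨w 2, ?_⟩⟩ <;> simp [stdH_apply, Fin.sum_univ_three] at *
    · linear_combination hi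
    · field_simp; linear_combination hi
    · field_simp; linear_combination -hi
    · field_simp at h2
      have a : star (w 0) = 0 := mul_left_cancel₀ this (by linear_combination h1 + h2)
      have b : star (w 1) = 0 := by linear_combination star i * a - star i * h1 + star (w 1) * hi
      ext j; fin_cases j <;> simp [star_eq_zero.1 a, star_eq_zero.1 b]
  exact ⟨(co_equiv C (nondeg_stdH 3) K).some.trans (quotCenterCongr (H.suEquivEG (n := 3) (by omega))).symm⟩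

end Cfsg.Agent.B85
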