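import Cfsg.Agent.B84.Four
import Cfsg.Agent.GT.Transfer
import Cfsg.Agent.GT.Coprime
import Cfsg.Agent.BS.RankTwo

/-! # General lemmas on involutions acting on groups of odd order -/

set_option autoImplicit false

namespace Cfsg.Agent.B85

open Cfsg.Agent.GT Cfsg.Agent.TT Cfsg.Agent.B84 Subgroup

variable {G : Type*} [Group G] {M Y B : Subgroup G} {t y : G}

/-- the elements of `Y` inverted by `t` -/
def Inv (Y : Subgroup G) (t : G) : Set G := {i | i ∈ Y ∧ t * i * t⁻¹ = i⁻¹}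

theorem dec (o : Odd (Nat.card Y)) (tt : t * t = 1) (ht : t ∈ N[Y]) (hy : y ∈ Y) :
    ∃ i ∈ Inv Y t, Commute (i⁻¹ * y) t := by
  have m : y * (t * y⁻¹ * t⁻¹) ∈ Y := mul_mem hy (conj_mem_of_mem_norm ht (inv_mem hy))
  have r : y * (t * y⁻¹ * t⁻¹) * t = y * t * y⁻¹ := by group
  obtain ⟨n, e1, e2⟩ := conj_of_inv (odd_of_mem o m) tt (by rw [r]; exact conj_mul_self y tt)
  refine ⟨_, ⟨pow_mem m n, e2⟩, commute_iff_conj.2 ?_⟩
  rw [r] at e1
  generalize (y * (t * y⁻¹ * t⁻¹)) ^ n = k at e1 ⊢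
  rw [show k⁻¹ * y * t * (k⁻¹ * y)⁻¹ = k⁻¹ * (y * t * y⁻¹) * k by group, ← e1]; group

theorem sq_inj {a b : G} (ha : Odd (orderOf a)) (hb : Odd (orderOf b)) (e : a * a = b * b) : a = b := by
  obtain ⟨k, hk⟩ := ha.mul hb
  have : ∀ x : G, x ^ (2 * k + 1) = 1 → x = (x * x) ^ (k + 1) := fun x r => by
    rw [← sq, ← pow_mul, show 2 * (k + 1) = 2 * k + 1 + 1 by ring, pow_succ, r, one_mul]
  rw [this a (by rw [← hk, pow_mul, pow_orderOf_eq_one, one_pow]), e,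
    ← this b (by rw [← hk, pow_mul', pow_orderOf_eq_one, one_pow])]

theorem inv_uniq (o : Odd (Nat.card Y)) {i j : G} (hi : i ∈ Inv Y t) (hj : j ∈ Inv Y t)
    (c : Commute (i⁻¹ * j) t) : i = j := by
  have a : ∀ i ∈ Inv Y t, i * t * i⁻¹ = i * i * t := fun i e => by
    rw [show i * t * i⁻¹ = i * (t * i * t⁻¹)⁻¹ * t by group, e.2, inv_inv]
  refine sq_inj (odd_of_mem o hi.1) (odd_of_mem o hj.1) (mul_right_cancel (b := t) ?_)
  rw [← a i hi, ← a j hj]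
  conv_lhs => rw [← commute_iff_conj.1 c]
  group

theorem card_dec (o : Odd (Nat.card Y)) (tt : t * t = 1) (ht : t ∈ N[Y]) (le : Y ≤ B)
    (d : ∀ b ∈ B, ∃ y ∈ Y, Commute (y⁻¹ * b) t) :
    Nat.card B = (Inv Y t).ncard * Nat.card ↥(B ⊓ C1[t]) := by
  rw [← Nat.card_coe_set_eq, ← Nat.card_prod]
  refine (Nat.card_congr (Equiv.ofBijective (fun p : Inv Y t × ↥(B ⊓ C1[t]) =>
    (⟨p.1 * p.2, mul_mem (le p.1.2.1) p.2.2.1⟩ : B)) ⟨fun p p' e => ?_, fun b => ?_⟩)).symm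
  · have e' : (p.1 : G) * p.2 = p'.1 * p'.2 := congrArg Subtype.val e
    have : (p.1 : G) = p'.1 := inv_uniq o p.1.2 p'.1.2 (by
      rw [show (p.1 : G)⁻¹ * p'.1 = p.2 * (p'.2 : G)⁻¹ by rw [eq_mul_inv_iff_mul_eq, mul_assoc, ← e']; group]
      exact mem_cent1.1 (mul_mem p.2.2.2 (inv_mem p'.2.2.2)))
    exact Prod.ext (Subtype.ext this) (Subtype.ext (mul_left_cancel (this ▸ e')))
  · obtain ⟨y, hy, c⟩ := d b b.2
    obtain ⟨i, hi, c'⟩ := dec o tt ht hy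
    refine ⟨(⟨i, hi⟩, ⟨i⁻¹ * b, B.mul_mem (B.inv_mem (le hi.1)) b.2, mem_cent1.2 ?_⟩), Subtype.ext (by simp)⟩
    simpa [mul_assoc] using (c'.mul_left c).eq

theorem card_dec' (o : Odd (Nat.card Y)) (tt : t * t = 1) (ht : t ∈ N[Y]) :
    Nat.card Y = (Inv Y t).ncard * Nat.card ↥(Y ⊓ C1[t]) :=
  card_dec o tt ht le_rfl fun b e => ⟨b, e, by simp⟩

theorem pow_arith {p f j : ℕ} (hp : 1 < p) (hj : 0 < j) (e : 2 * (p ^ f - 1) ∣ p ^ j - 1) (hf : 0 < f) :
    (p ^ f) ^ 2 ∣ p ^ j := by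
  rw [← pow_mul]
  refine pow_dvd_pow _ (not_lt.1 fun l => ?_)
  have a : ∀ k, 0 < k → 1 < p ^ k := fun k e => Nat.one_lt_pow e.ne' hp
  have b : ∀ k, 0 < k → k < f → ¬ p ^ f - 1 ∣ p ^ k - 1 := fun k e l d => by
    have := Nat.le_of_dvd (Nat.sub_pos_of_lt (a k e)) d
    have := Nat.pow_lt_pow_right hp l
    have := a k e
    omega
  rcases lt_trichotomy j f with r | rfl | r
  · exact b j hj r ((Dvd.intro_left _ rfl).trans e)
  · have := Nat.le_of_dvd (Nat.sub_pos_of_lt (a j hj)) e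
    have := a j hj
    omega
  · obtain ⟨k, rfl⟩ := Nat.exists_eq_add_of_lt r
    refine b (k + 1) (by omega) (by omega) ((Nat.dvd_add_right (Dvd.intro_left (p ^ (k + 1)) rfl)).1 ?_)
    have := a f hf
    have := a (k + 1) (by omega)
    rw [show p ^ (k + 1) * (p ^ f - 1) + (p ^ (k + 1) - 1) = p ^ (f + k + 1) - 1 by
      rw [Nat.mul_sub_one, add_assoc, pow_add p f, mul_comm]
      have : p ^ (k + 1) ≤ p ^ f * p ^ (k + 1) := Nat.le_mul_of_pos_left _ (by omega)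
      omega]
    exact (Dvd.intro_left _ rfl).trans e

variable [Finite G]

/-- a normal 2-complement -/
theorem compl2 (tt : t * t = 1) (t1 : t ≠ 1) (tM : t ∈ M)
    (u : ∀ x ∈ M, Commute x t → x * x = 1 → x ≠ 1 → x = t)
    (ab : ∀ x ∈ M, ∀ y ∈ M, Commute x t → Commute y t → Commute x y) :
    ∃ Y : Subgroup G, Odd (Nat.card Y) ∧ Y ≤ M ∧ N[M] ≤ N[Y] ∧ (∀ x ∈ M, Odd (orderOf x) → x ∈ Y) ∧
      ∀ n ∈ N[M], ∃ y ∈ Y, Commute (y⁻¹ * n) t := by
  obtain ⟨S, hS, le⟩ := exists_syl_ge (p := 2) (M := M ⊓ C1[t]) (Q := zpowers t) Nat.prime_two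
    (PG.isPGroup_zpowers_of_pow_eq_one (k := 1) (by rw [pow_one, sq, tt])) (zpowers_le.2 ⟨tM, self_mem_cent1 _⟩)
  have n : N[S] ≤ C1[t] := fun n e => by
    have := syl_le hS (conj_mem_of_mem_norm e (le (mem_zpowers _)))
    exact mem_cent1.2 (mul_inv_eq_iff_eq_mul.1 (u _ this.1 (mem_cent1.1 this.2) (conj_mul_self n tt)
      (by simpa using t1)))
  have hS' := syl_of_norm_le Nat.prime_two hS ((syl_le hS).trans inf_le_left) (inf_le_inf_left _ n)
  have y := Burnside_hall Nat.prime_two hS' fun x e y e' =>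
    ab _ (syl_le hS e').1 _ e.1 (mem_cent1.1 (syl_le hS e').2) (mem_cent1.1 (n e.2))
  refine ⟨_, Nat.not_even_iff_odd.1 fun e => (isPiSubgroup_single_compl_iff Nat.prime_two).1
    (IsPiHallOf.isPi y) (even_iff_two_dvd.1 e), piCoreOf_le _ _, le_norm_piCoreOf le_rfl,
    fun x e o => IsPiHallOf.mem_of_normal y (self_le_norm_piCoreOf _ _) e ((piNat_single_compl_iff
      Nat.prime_two).2 fun d => Nat.not_even_iff_odd.2 o (even_iff_two_dvd.2 d)), fun x e => ?_⟩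
  obtain ⟨k, hk, m, hm, rfl⟩ := frattini_arg_exists Nat.prime_two hS' e
  obtain ⟨u, hu, v, hv, rfl⟩ := (IsPiHallOf.isComplIn' y hS').exists_mul hk
  exact ⟨u, hu, by rw [mul_assoc u, inv_mul_cancel_left]; exact mem_cent1.1 (mul_mem (syl_le hS hv).2 (n hm))⟩

theorem cop2 {A : Subgroup G} (o : Odd (Nat.card Y)) (h : IsPGroup 2 A) : (Nat.card Y).Coprime (Nat.card A) := by
  haveI := Fact.mk Nat.prime_two
  obtain ⟨n, e⟩ := h.exists_card_eq
  rw [e]
  exact ((Nat.coprime_two_right.2 o)).pow_right n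

/-- a subgroup with a conjugate meeting it in a subgroup of index `m` has index at least `m + 1` -/
theorem two_orbits {w : G} (hw : w ∉ B) : (cj[w] B).relIndex B + 1 ≤ B.index ∧
    ((cj[w] B).relIndex B + 1 = B.index → ∀ x, x ∈ B ∨ ∃ b ∈ B, ∃ b' ∈ B, x = b * w * b') := by
  have e : (cj[w] B).relIndex B = (MulAction.orbit B (w : G ⧸ B)).ncard := by
    rw [← MulAction.index_stabilizer, relIndex]
    congr 1
    ext x
    rw [mem_subgroupOf, mem_conj, MulAction.mem_stabilizer_iff, eq_comm]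
    exact (QuotientGroup.eq.trans (by rw [mul_assoc]; rfl)).symm
  have n : ((1 : G) : G ⧸ B) ∉ MulAction.orbit B (w : G ⧸ B) := fun ⟨b, r⟩ => hw (by
    have := QuotientGroup.eq.1 (show ((b.1 * w : G) : G ⧸ B) = (1 : G) from r)
    rw [mul_one, inv_mem_iff] at this
    exact (mul_mem_cancel_left b.2).1 this)
  rw [e, ← Set.ncard_insert_of_notMem n, index, ← Set.ncard_univ]
  refine ⟨Set.ncard_le_ncard (Set.subset_univ _), fun r x => ?_⟩
  have := (Set.eq_of_subset_of_ncard_le (Set.subset_univ _) r.ge).ge (Set.mem_univ (x : G ⧸ B))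
  refine this.imp (fun r => ?_) fun ⟨b, r⟩ => ⟨b, b.2, _, QuotientGroup.eq.1
    (show ((b.1 * w : G) : G ⧸ B) = x from r), by group⟩
  simpa using QuotientGroup.eq.1 r

end Cfsg.Agent.B85
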