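import Cfsg.Agent.B85C.H
import Cfsg.Agent.B84H.B
import Cfsg.Agent.Cl.DicksonCount

/-! # The number of involutions modulo eight -/

set_option autoImplicit false
set_option linter.unusedSectionVars false

namespace Cfsg.Agent.B85

open Cfsg Cfsg.Agent.GT Cfsg.Agent.B85C Cfsg.Agent.B84H Subgroup Finset
open scoped Classical

variable {H C K X G : Type*} [Group H] [CommGroup C] [CommGroup K] [CommGroup X] [Group G] [Fintype H] [Fintype C]
  [Fintype K] [Fintype X] [Fintype G] {m : Mo H C K X} {φ : H →* G} {g : G}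

theorem card_inv (h : B85C.Hy m φ g) : (#{s ∈ ({s | IsConj (φ (m.dg (m.e, m.e))) s} : Finset G) |
    Commute (φ (m.dg (m.e, m.e))) s} : ℤ) = m.q * (m.q - 1) + 1 := by
  have Q := h.q3
  have c : (#{A : H | IsConj (m.dg (1, m.e)) A} : ℤ) = m.q * (m.q - 1) := by
    rw [card_cl]; exact_mod_cast m.index_u
  have d : ∀ B : H, m.det (B * m.dg (1, m.e) * B⁻¹) = m.e := fun B => by simp [m.det_dg]
  rw [← c, ← card_image_of_injOn (f := φ), ← Nat.cast_succ, Nat.succ_eq_add_one,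
    ← card_insert_of_notMem (a := φ (m.dg (m.e, m.e)))]
  · congr 2
    ext s
    simp only [mem_filter, mem_univ, true_and, mem_insert, mem_image]
    constructor
    · rintro ⟨e1, e2⟩
      obtain ⟨A, rfl⟩ := h.cent.1 e2.symm
      obtain ⟨c, e⟩ := isConj_iff.1 e1
      exact (h.invol (by rw [← e, conj_mul, Q.tt, mul_one, mul_inv_cancel]) (by simpa [← e] using Q.t1)).imp_right
        fun ⟨B, n⟩ => ⟨_, isConj_iff.2 ⟨B, rfl⟩, by rw [n, map_mul, map_mul, map_inv]⟩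
    · rintro (rfl | ⟨A, e, rfl⟩)
      exacts [⟨.refl _, .refl _⟩, ⟨Q.cu.trans (φ.map_isConj e), (h.cent.2 ⟨A, rfl⟩).symm⟩]
  · simp only [mem_filter, mem_univ, true_and, mem_image, isConj_iff]
    rintro ⟨_, ⟨B, rfl⟩, e⟩
    rw [map_mul, map_mul, map_inv, mul_inv_eq_iff_eq_mul, ← (h.cent.2 ⟨B, rfl⟩).eq, mul_right_inj] at e
    exact Q.ne e
  · intro A hA B hB e
    obtain ⟨A, rfl⟩ := isConj_iff.1 (mem_filter.1 hA).2
    obtain ⟨B, rfl⟩ := isConj_iff.1 (mem_filter.1 hB).2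
    exact mul_inv_eq_one.1 (h.ker_det (by rw [map_mul φ, e, map_inv, mul_inv_cancel])
      (by rw [map_mul, map_inv, d, d, mul_inv_cancel]))

theorem mod8 (h : B85C.Hy m φ g) :
    (8 : ℤ) ∣ (C1[φ (m.dg (m.e, m.e))]).index - 1 - m.q * (m.q - 1) := by
  haveI := m.cycK
  obtain ⟨k, hk⟩ : ∃ k : K, orderOf k = 8 := by
    obtain ⟨b, hb⟩ := IsCyclic.exists_ofOrder_eq_natCard (α := K)
    obtain ⟨r, hr⟩ : 8 ∣ orderOf b := by
      obtain ⟨n, hn⟩ := m.odd
      rw [hb, m.cK, hn, Nat.add_sub_cancel, show (2 * n + 1 + 1) * (2 * n) = 4 * (n * (n + 1)) by ring]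
      exact mul_dvd_mul_left 4 (Nat.even_mul_succ_self n).two_dvd
    have : r ≠ 0 := fun z => (orderOf_pos b).ne' (by rw [hr, z])
    exact ⟨b ^ r, by rw [orderOf_pow_of_dvd this (Dvd.intro_left _ hr.symm), hr,
      Nat.mul_div_cancel _ (Nat.pos_of_ne_zero this)]⟩
  have k4 : m.kk (k ^ 4) = m.dg (m.e, m.e) := by
    have s : k ^ 4 * k ^ 4 = 1 := by rw [← pow_add]; exact (hk ▸ pow_orderOf_eq_one k : k ^ 8 = 1)
    obtain ⟨c, r⟩ := m.mem_jj (k := k ^ 4) (by
      obtain ⟨n, hn⟩ := m.odd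
      rw [hn, show 2 * n + 1 + 1 = 2 * (n + 1) by ring, pow_mul, sq, s, one_pow])
    rw [← r, m.kj, (m.sqC (a := c) (m.jj_inj (by rw [map_mul, r, s, map_one]))).resolve_left fun z =>
      pow_ne_one_of_lt_orderOf (x := k) (n := 4) (by norm_num) (by omega) (by rw [← r, z, map_one])]
  have ct : ∀ A, Commute (φ A) (φ (m.dg (m.e, m.e))) := fun A => h.cent.2 ⟨A, rfl⟩
  letI : MulAction (zpowers k) G := MulAction.compHom G (MulAut.conj.comp ((φ.comp m.kk).comp (zpowers k).subtype))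
  have d := Cl.card_dvd_ncard_of_free (H := zpowers k) (↑({s ∈ ({s | IsConj (φ (m.dg (m.e, m.e))) s} : Finset G) |
    ¬ Commute (φ (m.dg (m.e, m.e))) s} : Finset G) : Set G) (fun a i e => by
      change φ (m.kk a) * i * (φ (m.kk a))⁻¹ ∈ _
      simp only [coe_filter, mem_filter, mem_univ, true_and, Set.mem_setOf_eq] at e ⊢
      refine ⟨e.1.trans (isConj_iff.2 ⟨_, rfl⟩), fun c => e.2 ((TT.commute_conj_iff (φ (m.kk a))).1 ?_)⟩
      rwa [TT.commute_iff_conj.1 (ct _)]) fun a i e c => by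
    replace c : Commute (φ (m.kk a)) i := TT.commute_iff_conj.2 c
    simp only [coe_filter, mem_filter, mem_univ, true_and, Set.mem_setOf_eq] at e
    by_contra n
    obtain ⟨a, ha⟩ := a
    rw [mem_zpowers_iff_mem_range_orderOf, hk, mem_image] at ha
    obtain ⟨j, hj, rfl⟩ := ha
    have : ∃ l, k ^ 4 = (k ^ j) ^ l := by
      have k8 : k ^ 8 = 1 := hk ▸ pow_orderOf_eq_one k
      have : ∀ l n, j * l = 4 + 8 * n → k ^ 4 = (k ^ j) ^ l := fun l n r => by
        rw [← pow_mul, r, pow_add, pow_mul k 8, k8, one_pow, mul_one]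
      rw [mem_range] at hj
      interval_cases j
      exacts [(n (Subtype.ext (pow_zero k))).elim, ⟨_, this 4 0 rfl⟩, ⟨_, this 2 0 rfl⟩, ⟨_, this 4 1 rfl⟩,
        ⟨_, this 1 0 rfl⟩, ⟨_, this 4 2 rfl⟩, ⟨_, this 2 1 rfl⟩, ⟨_, this 4 3 rfl⟩]
    obtain ⟨l, r⟩ := this
    exact e.2 (by rw [← k4, r, map_pow, map_pow]; exact c.pow_left l)
  rw [Nat.card_zpowers, hk, Set.ncard_coe_finset] at d
  have s := card_filter_add_card_filter_not (s := ({s | IsConj (φ (m.dg (m.e, m.e))) s} : Finset G))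
    (Commute (φ (m.dg (m.e, m.e))) ·)
  rw [card_cl] at s
  have c := card_inv h
  rw [← s]
  push_cast
  rw [c]
  rw [show ∀ a b : ℤ, a + 1 + b - 1 - a = b from fun a b => by ring]
  convert Int.natCast_dvd_natCast.2 d
  rfl

/-- the value `q² (q² + q - 1)` does not occur -/
theorem kill8 (h : B85C.Hy m φ g) (h3 : m.q % 4 = 3) :
    ((C1[φ (m.dg (m.e, m.e))]).index : ℤ) ≠ m.q ^ 2 * (m.q ^ 2 + m.q - 1) := fun e => by
  have := mod8 h
  rw [e] at this
  obtain ⟨r, hr⟩ : ∃ r, m.q = 4 * r + 3 := ⟨m.q / 4, by omega⟩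
  rw [hr] at this
  push_cast at this
  obtain ⟨c, hc⟩ := this
  have : (4 : ℤ) + 8 * (32 * r ^ 4 + 104 * r ^ 3 + 122 * r ^ 2 + 62 * r + 11) = 8 * c := by linear_combination hc
  omega

end Cfsg.Agent.B85
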